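import Groth.Agent.S14451
import Groth.Agent.EpsLib.PushDerived
import Groth.Agent.RDerLib.LeftExact

/-!
# Cohomology of an object whose higher direct images are concentrated in one degree
-/

set_option autoImplicit false
set_option linter.all false
set_option backward.isDefEq.respectTransparency false
set_option backward.isDefEq.respectTransparency.types false
set_option maxHeartbeats 1000000

universe w v v' u'' u'

open CategoryTheory CategoryTheory.Limits CategoryTheory.Abelian
open Groth.Agent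

namespace EtPnCohLib

noncomputable section

variable {C : Type u'} [Category.{v} C] [Abelian C] [HasExt.{w} C]
  {D : Type u''} [Category.{v'} D] [Abelian D] [HasExt.{w} D] [EnoughInjectives D] [HasInjectiveResolutions D]
  {F : C ⥤ D} {G : D ⥤ C} [F.Additive] [G.Additive] (adj : F ⊣ G)
  [PreservesFiniteLimits F] [PreservesFiniteColimits F] [PreservesFiniteLimits G]

include adj

theorem nonempty_ext_iso_congr (Z : C) {Y Y' : C} (e : Y ≅ Y') (n : ℕ) :
    Nonempty (Ext.{w} Z Y n ≃+ Ext.{w} Z Y' n) :=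
  ⟨AddEquiv.ofBijective (TorsBCLib.em.{w} Z e.hom n) (TorsBCLib.em_bijective_of_isIso Z e.hom n)⟩

/-- One dimension shift: the embedding into an injective, and what it does to direct images. -/
theorem exists_step (X : D) [Injective (G.obj X)] :
    ∃ (S : ShortComplex D) (_ : S.ShortExact) (_ : Injective S.X₂), S.X₁ = X ∧
      ∃ (K : C) (c : K ⟶ G.obj S.X₃) (p : G.obj S.X₂ ⟶ K) (s : K ⟶ G.obj S.X₂),
        Mono c ∧ Injective K ∧ s ≫ p = 𝟙 K ∧ p ≫ c = G.map S.g ∧
        Nonempty (cokernel c ≅ (G.rightDerived 1).obj X) ∧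
        ∀ q : ℕ, 1 ≤ q → Nonempty ((G.rightDerived q).obj S.X₃ ≅ (G.rightDerived (q + 1)).obj X) := by
  haveI : F.PreservesMonomorphisms := inferInstance
  let ip := (EnoughInjectives.presentation X).some
  haveI : Injective ip.J := ip.injective
  let S := ShortComplex.mk ip.f (cokernel.π ip.f) (cokernel.condition _)
  have hS : S.ShortExact := { exact := ShortComplex.exact_of_g_is_cokernel _ (cokernelIsCokernel _) }
  haveI : Injective S.X₂ := ip.injective
  haveI : Injective (G.obj S.X₂) := Injective.injective_of_adjoint adj S.X₂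
  haveI : Injective (G.obj S.X₁) := ‹Injective (G.obj X)›
  haveI : Mono (G.map S.f) := inferInstanceAs (Mono (G.map ip.f))
  let r : G.obj S.X₂ ⟶ G.obj S.X₁ := Injective.factorThru (𝟙 _) (G.map S.f)
  have hr : G.map S.f ≫ r = 𝟙 _ := Injective.comp_factorThru _ _
  let p := cokernel.π (G.map S.f)
  let s : cokernel (G.map S.f) ⟶ G.obj S.X₂ := cokernel.desc _ (𝟙 _ - r ≫ G.map S.f)
    (by rw [Preadditive.comp_sub, ← Category.assoc, hr, Category.id_comp, Category.comp_id, sub_self])
  have hs : s ≫ p = 𝟙 _ := by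
    rw [← cancel_epi (cokernel.π (G.map S.f)), cokernel.π_desc_assoc, Preadditive.sub_comp,
      Category.assoc, show G.map S.f ≫ p = 0 from cokernel.condition _, comp_zero, sub_zero,
      Category.id_comp, Category.comp_id]
  have hK : Injective (cokernel (G.map S.f)) := ⟨fun g f _ => ⟨Injective.factorThru (g ≫ s) f ≫ p, by
    rw [Injective.comp_factorThru_assoc, Category.assoc, hs, Category.comp_id]⟩⟩
  have hex : (S.map G).Exact :=
    (((Functor.preservesFiniteLimits_tfae G).out 3 0 : PreservesFiniteLimits G ↔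
      ∀ S : ShortComplex D, S.ShortExact → (S.map G).Exact ∧ Mono (G.map S.f))).1 ‹_› S hS |>.1
  let c : cokernel (G.map S.f) ⟶ G.obj S.X₃ := cokernel.desc _ (G.map S.g) (S.map G).zero
  have hc : Mono c := (ShortComplex.exact_iff_mono_cokernel_desc (S.map G)).1 hex
  refine ⟨S, hS, inferInstance, rfl, cokernel (G.map S.f), c, p, s, hc, hK, hs, cokernel.π_desc _ _ _, ?_, fun q hq => ?_⟩
  · let Δ := RDerLib.derivedLES G
    have h1 := Δ.exact₃ S hS 0 1 rfl
    haveI : Epi (Δ.δ S hS 0 1 rfl) :=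
      (Δ.exact₁ S hS 0 1 rfl).epi_f ((G.isZero_rightDerived_obj_injective_succ 0 S.X₂).eq_of_tgt _ _)
    let e₀ : cokernel ((G.rightDerived 0).map S.g) ≅ cokernel (G.map S.g) :=
      cokernel.mapIso _ _ (G.rightDerivedZeroIsoSelf.app S.X₂) (G.rightDerivedZeroIsoSelf.app S.X₃)
        (G.rightDerivedZeroIsoSelf.hom.naturality S.g)
    let e₁ : cokernel ((G.rightDerived 0).map S.g) ≅ (G.rightDerived 1).obj X :=
      (cokernelIsCokernel _).coconePointUniqueUpToIso h1.gIsCokernel
    let e₂ : cokernel (G.map S.g) ≅ cokernel c :=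
      (cokernelIsoOfEq (show G.map S.g = p ≫ c from (cokernel.π_desc _ _ _).symm)).trans (cokernelEpiComp p c)
    exact ⟨e₂.symm ≪≫ e₀.symm ≪≫ e₁⟩
  · obtain ⟨q', rfl⟩ := Nat.exists_eq_succ_of_ne_zero (by omega : q ≠ 0)
    exact EpsLib.nonempty_iso_succ G hS (q' + 1) (G.isZero_rightDerived_obj_injective_succ q' _)
      (G.isZero_rightDerived_obj_injective_succ (q' + 1) _)

/-- The collapse. -/
theorem collapse (Z : C) : ∀ (d : ℕ) (X : D), Injective (G.obj X) →
    (∀ q : ℕ, q ≠ 0 → q ≠ d + 1 → IsZero ((G.rightDerived q).obj X)) →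
    (∀ m : ℕ, 1 ≤ m → m < d + 1 → Subsingleton (Ext.{w} (F.obj Z) X m)) ∧
      ∀ n : ℕ, Nonempty (Ext.{w} (F.obj Z) X (n + d + 1) ≃+ Ext.{w} Z ((G.rightDerived (d + 1)).obj X) n) := by
  intro d
  induction d with
  | zero =>
    intro X hX hR
    refine ⟨fun m h1 h2 => absurd h2 (by omega), fun n => ?_⟩
    obtain ⟨S, hS, hI, rfl, K, c, p, s, hc, hK, hs, hpc, ⟨e⟩, hq⟩ := exists_step adj X
    have hQ : ∀ q, IsZero ((G.rightDerived (q + 1)).obj S.X₃) := fun q => by
      obtain ⟨i⟩ := hq (q + 1) (by omega)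
      exact (hR _ (by omega) (by omega)).of_iso i
    let a := Groth.Agent.S14451.extAdj'.{w} adj Z S.X₃ n
    have ha : Function.Bijective a := Groth.Agent.S14451.extAdj'_bijective adj Z n S.X₃ hQ
    let Φ : Ext.{w} Z (G.obj S.X₃) n →+ Ext.{w} (F.obj Z) S.X₁ (n + 1) :=
      AddMonoidHom.mk' (fun z => (a z).comp hS.extClass rfl) fun x y => by
        simp only [map_add, Ext.add_comp]
    let Ψ : Ext.{w} Z (G.obj S.X₃) n →+ Ext.{w} Z (cokernel c) n := TorsBCLib.em Z (cokernel.π c) n
    let T := ShortComplex.mk c (cokernel.π c) (cokernel.condition c)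
    have hT : T.ShortExact := { exact := ShortComplex.exact_of_g_is_cokernel _ (cokernelIsCokernel _) }
    have hΦ : Function.Surjective Φ := fun x => by
      obtain ⟨y, hy⟩ := Ext.covariant_sequence_exact₁ (F.obj Z) hS (n₁ := n + 1) x (Ext.eq_zero_of_injective _) (n₀ := n) rfl
      obtain ⟨z, rfl⟩ := ha.2 y
      exact ⟨z, hy⟩
    have hΨ : Function.Surjective Ψ := fun x => by
      haveI : Injective T.X₁ := hK
      obtain ⟨y, hy⟩ := Ext.covariant_sequence_exact₃ Z hT x (n₁ := n + 1) rfl (Ext.eq_zero_of_injective _)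
      exact ⟨y, hy⟩
    have hker : Φ.ker = Ψ.ker := AddSubgroup.ext fun z => by
      show (a z).comp hS.extClass rfl = 0 ↔ TorsBCLib.em Z (cokernel.π c) n z = 0
      constructor
      · intro h
        obtain ⟨y, hy⟩ := Ext.covariant_sequence_exact₃ (F.obj Z) hS (a z) (n₁ := n + 1) rfl h
        obtain ⟨y', rfl⟩ := (Groth.Agent.S14451.extAdj'_bijective adj Z n S.X₂
          fun q => G.isZero_rightDerived_obj_injective_succ q _).2 y
        change TorsBCLib.em (F.obj Z) S.g n _ = _ at hy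
        rw [Groth.Agent.S14451.extAdj'_em] at hy
        rw [← ha.1 hy, TorsBCLib.em_comp, ← hpc, Category.assoc, cokernel.condition, comp_zero, TorsBCLib.em_zero]
      · intro h
        obtain ⟨w, hw⟩ := Ext.covariant_sequence_exact₂ Z hT z h
        change TorsBCLib.em Z c n w = z at hw
        have hz : z = TorsBCLib.em Z (G.map S.g) n (TorsBCLib.em Z s n w) := by
          rw [TorsBCLib.em_comp, ← hpc, ← Category.assoc, hs, Category.id_comp, hw]
        subst hz
        rw [show a (TorsBCLib.em Z (G.map S.g) n (TorsBCLib.em Z s n w)) = TorsBCLib.em (F.obj Z) S.g n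
          (Groth.Agent.S14451.extAdj'.{w} adj Z S.X₂ n (TorsBCLib.em Z s n w)) from
          (Groth.Agent.S14451.extAdj'_em adj Z S.g _).symm]
        exact TorsBCLib.g_delta hS rfl _
    obtain ⟨e'⟩ := nonempty_ext_iso_congr adj Z e n
    exact ⟨(QuotientAddGroup.quotientKerEquivOfSurjective Φ hΦ).symm.trans
      ((QuotientAddGroup.quotientAddEquivOfEq hker).trans
        ((QuotientAddGroup.quotientKerEquivOfSurjective Ψ hΨ).trans e'))⟩
  | succ d ih =>
    intro X hX hR
    obtain ⟨S, hS, hI, rfl, K, c, p, s, hc, hK, hs, hpc, ⟨e⟩, hq⟩ := exists_step adj X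
    haveI : Epi c := Preadditive.epi_of_isZero_cokernel c ((hR 1 (by omega) (by omega)).of_iso e)
    haveI : Mono c := hc
    haveI := isIso_of_mono_of_epi c
    have hQ0 : Injective (G.obj S.X₃) := Injective.of_iso (asIso c) hK
    obtain ⟨hv, hn⟩ := ih S.X₃ hQ0 fun q hq0 hq1 => by
      obtain ⟨i⟩ := hq q (by omega)
      exact (hR _ (by omega) (by omega)).of_iso i
    have hiso : ∀ m, Nonempty (Ext.{w} (F.obj Z) S.X₃ (m + 1) ≃+ Ext.{w} (F.obj Z) S.X₁ (m + 2)) := fun m => by
      let δ : Ext.{w} (F.obj Z) S.X₃ (m + 1) →+ Ext.{w} (F.obj Z) S.X₁ (m + 2) :=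
        AddMonoidHom.mk' (fun z => z.comp hS.extClass rfl) fun x y => Ext.add_comp _ _ _ _
      refine ⟨AddEquiv.ofBijective δ ⟨(injective_iff_map_eq_zero δ).2 fun z hz => ?_, fun x => ?_⟩⟩
      · obtain ⟨y, rfl⟩ := Ext.covariant_sequence_exact₃ (F.obj Z) hS z (n₁ := m + 2) rfl hz
        rw [Ext.eq_zero_of_injective y, Ext.zero_comp]
      · exact Ext.covariant_sequence_exact₁ (F.obj Z) hS (n₁ := m + 2) x (Ext.eq_zero_of_injective _) (n₀ := m + 1) rfl
    refine ⟨fun m h1 h2 => ?_, fun n => ?_⟩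
    · rcases Nat.lt_or_ge 1 m with h | h
      · obtain ⟨m, rfl⟩ : ∃ m', m = m' + 2 := ⟨m - 2, by omega⟩
        obtain ⟨i⟩ := hiso m
        haveI := hv (m + 1) (by omega) (by omega)
        exact i.symm.toEquiv.subsingleton
      · obtain rfl : m = 1 := by omega
        refine subsingleton_of_forall_eq 0 fun x => ?_
        obtain ⟨y, rfl⟩ := Ext.covariant_sequence_exact₁ (F.obj Z) hS (n₁ := 1) x (Ext.eq_zero_of_injective _) (n₀ := 0) rfl
        obtain ⟨y, rfl⟩ := (Ext.mk₀_bijective _ _).2 y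
        let z := adj.homEquiv Z S.X₃ y
        have hy : y = (adj.homEquiv Z S.X₂).symm (z ≫ inv c ≫ s) ≫ S.g := by
          rw [← Adjunction.homEquiv_naturality_right_symm, Category.assoc, Category.assoc, ← hpc, reassoc_of% hs,
            IsIso.inv_hom_id, Category.comp_id, Equiv.symm_apply_apply]
        rw [hy, ← Ext.mk₀_comp_mk₀]
        exact TorsBCLib.g_delta hS rfl _
    · obtain ⟨i⟩ := hiso (n + d)
      obtain ⟨j⟩ := hn n
      obtain ⟨k⟩ := hq (d + 1) (by omega)
      obtain ⟨k'⟩ := nonempty_ext_iso_congr adj Z k n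
      exact ⟨i.symm.trans (j.trans k')⟩

end

end EtPnCohLib
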