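import Groth.Agent.EtPBCCdLib.Compactified
import Groth.Agent.EtPBCCdLib.OpenSquare
import Groth.Agent.EtSmAcycLib.AffSpace
import Groth.Agent.EtSmAcycLib.Nearby
import Groth.Agent.EtProperConsLib.Gen
import Groth.Agent.EtStrictAcycLib.Fibre
import Groth.Agent.S0685
import Groth.Agent.S3120
import Groth.Agent.S0642
import Groth.Agent.S14451

/-!
# Cohomology with compact supports: comparison of compactifications
-/

set_option autoImplicit false
set_option linter.all false
set_option backward.isDefEq.respectTransparency false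
set_option backward.isDefEq.respectTransparency.types false
set_option maxHeartbeats 2000000
set_option synthInstance.maxHeartbeats 400000

universe u

open CategoryTheory CategoryTheory.Limits CategoryTheory.Abelian AlgebraicGeometry Opposite
open Groth.Agent Groth.Agent.EtShLib

attribute [local instance] EtSliceLib.pullExact

noncomputable section

namespace EtPnCohLib

/-- The constant sheaf. -/
abbrev cn (X : Scheme.{u}) (n : ℕ) : EtCoh.Ab X := EtCoh.const X (ZMod n)

theorem isTorsion_cn (X : Scheme.{u}) {n : ℕ} (hn : 0 < n) : EtCoh.IsTorsion (cn X n) :=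
  CdOneLib.isTorsion_of_nsmul_id n hn (EtStrictAcycLib.nsmul_id_const n)

theorem nonempty_H_congr {X : Scheme.{u}} {F G : EtCoh.Ab X} (e : F ≅ G) (q : ℕ) :
    Nonempty (EtCoh.H X F q ≃+ EtCoh.H X G q) :=
  ⟨((EtCoh.HF X q).mapIso e).addCommGroupIsoToAddEquiv⟩

theorem nonempty_H_pull_iso {A B : Scheme.{u}} (a : A ⟶ B) [IsIso a] (G : EtCoh.Ab B) (q : ℕ) :
    Nonempty (EtCoh.H A ((EtCoh.pull a).obj G) q ≃+ EtCoh.H B G q) :=
  ⟨(AddEquiv.ofBijective _ (EtPBCProperLib.bijective_of_iso a G q)).symm⟩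

theorem nonempty_H_push {A B : Scheme.{u}} (f : A ⟶ B) (G : EtCoh.Ab A)
    (hR : ∀ q : ℕ, 0 < q → IsZero ((EtCoh.Rpush f q).obj G)) (q : ℕ) :
    Nonempty (EtCoh.H B ((EtCoh.push f).obj G) q ≃+ EtCoh.H A G q) := by
  refine ⟨AddEquiv.ofBijective (AddMonoidHom.mk' (EtLim.HofPush f G q) ?_) (Groth.Agent.S14451.result f G hR q)⟩
  intro x y
  exact map_add (EtLim.HofPush f G q) x y

variable {U V X : Scheme.{u}}

theorem nonempty_extZero_comp (a : U ⟶ V) (b : V ⟶ X) [IsOpenImmersion a] [IsOpenImmersion b]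
    (F : EtCoh.Ab U) :
    Nonempty ((EtShriek.extZero b).obj ((EtShriek.extZero a).obj F) ≅ (EtShriek.extZero (a ≫ b)).obj F) := by
  obtain ⟨e⟩ := Groth.Agent.S0685.result a b
  let z := fun {A B : Scheme.{u}} (j : A ⟶ B) [IsOpenImmersion j] => extZeroPreIso j ≪≫ (lowerShriekIso j).symm
  exact ⟨(EtShriek.extZero b).mapIso ((z a).app F) ≪≫ (z b).app _ ≪≫ (e.app F).symm ≪≫ ((z (a ≫ b)).app F).symm⟩

theorem nonempty_extZero_iso (a : U ⟶ V) [IsIso a] (n : ℕ) :
    Nonempty (cn V n ≅ (EtShriek.extZero a).obj (cn U n)) := by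
  obtain ⟨r⟩ := nonempty_pull_iso_restrAlong a (cn V n)
  refine nonempty_iso_extZero a (cn U n) (cn V n) (r.symm ≪≫ EtCore.pullConst a (ZMod n)) fun Ω _ _ ξ h => ?_
  exact absurd ((asIso a).hom.homeomorph.surjective (ξ.base default)) (h ⟨default, rfl⟩)

theorem nonempty_Rpush_id (G : EtCoh.Ab U) : Nonempty ((EtCoh.Rpush (𝟙 U) 0).obj G ≅ G) := by
  obtain ⟨e⟩ := EtProperConsLib.nonempty_pull_id U
  let i : EtCoh.push (𝟙 U) ≅ 𝟭 (EtCoh.Ab U) :=
    Adjunction.rightAdjointUniq ((EtCoh.pullPushAdj (𝟙 U)).ofNatIsoLeft e) Adjunction.id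
  haveI : PreservesLimitsOfSize.{0, 0} (EtCoh.push (𝟙 U)) := (EtCoh.pullPushAdj _).rightAdjoint_preservesLimits
  haveI : PreservesFiniteLimits (EtCoh.push (𝟙 U)) := PreservesLimitsOfSize.preservesFiniteLimits _
  exact ⟨(EtCoh.push (𝟙 U)).rightDerivedZeroIsoSelf.app G ≪≫ i.app G⟩

/-- A proper morphism of compactifications does not change cohomology with compact supports. -/
theorem nonempty_H_of_dominating {P Q : Scheme.{u}} (j : U ⟶ P) [IsOpenImmersion j] (γ : U ⟶ Q) [IsOpenImmersion γ]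
    (π : Q ⟶ P) [IsProper π] (w : γ ≫ π = j) (G : EtCoh.Ab U) (hG : EtCoh.IsTorsion G) (q : ℕ) :
    Nonempty (EtCoh.H Q ((EtShriek.extZero γ).obj G) q ≃+ EtCoh.H P ((EtShriek.extZero j).obj G) q) := by
  have e := fun p => EtPBCCdLib.nonempty_extZero_Rpush_iso γ j (𝟙 U) π (w.trans (Category.id_comp j).symm) G hG p
  have hR : ∀ p, 0 < p → IsZero ((EtCoh.Rpush π p).obj ((EtShriek.extZero γ).obj G)) := fun p hp => by
    obtain ⟨i⟩ := e p
    haveI : PreservesFiniteLimits (EtShriek.extZero j) := preservesFiniteLimits_extZero j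
    exact ((EtShriek.extZero j).map_isZero (EtStrictAcycLib.isZero_Rpush_finite (𝟙 U) G p hp)).of_iso i.symm
  haveI : PreservesLimitsOfSize.{0, 0} (EtCoh.push π) := (EtCoh.pullPushAdj π).rightAdjoint_preservesLimits
  haveI : PreservesFiniteLimits (EtCoh.push π) := PreservesLimitsOfSize.preservesFiniteLimits _
  obtain ⟨i⟩ := e 0
  obtain ⟨k⟩ := nonempty_Rpush_id G
  let φ : (EtCoh.push π).obj ((EtShriek.extZero γ).obj G) ≅ (EtShriek.extZero j).obj G :=
    ((EtCoh.push π).rightDerivedZeroIsoSelf.app _).symm ≪≫ i.symm ≪≫ (EtShriek.extZero j).mapIso k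
  obtain ⟨a⟩ := nonempty_H_push π ((EtShriek.extZero γ).obj G) hR q
  obtain ⟨b⟩ := nonempty_H_congr φ q
  exact ⟨a.symm.trans b⟩

/-- Independence of the compactification. -/
theorem nonempty_H_independent {k : Type u} [Field k] [IsReduced U] {P P' : Scheme.{u}}
    (b : P ⟶ Spec (CommRingCat.of k)) [IsProper b] (b' : P' ⟶ Spec (CommRingCat.of k)) [IsProper b']
    (j : U ⟶ P) [IsOpenImmersion j] (j' : U ⟶ P') [IsOpenImmersion j'] (w : j ≫ b = j' ≫ b')
    (G : EtCoh.Ab U) (hG : EtCoh.IsTorsion G) (q : ℕ) :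
    Nonempty (EtCoh.H P ((EtShriek.extZero j).obj G) q ≃+ EtCoh.H P' ((EtShriek.extZero j').obj G) q) := by
  let γ : U ⟶ pullback b b' := pullback.lift j j' w
  haveI : IsImmersion (γ ≫ pullback.fst b b') := by rw [pullback.lift_fst]; infer_instance
  haveI : IsImmersion γ := IsImmersion.of_comp γ (pullback.fst b b')
  haveI : IsOpenImmersion γ.toImage := AlgSpRegLib.isOpenImmersion_toImage_of_reduced γ
  haveI : IsProper (pullback.fst b b') := MorphismProperty.pullback_fst _ _ inferInstance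
  haveI : IsProper (pullback.snd b b') := MorphismProperty.pullback_snd _ _ inferInstance
  have h₁ : γ.toImage ≫ γ.imageι ≫ pullback.fst b b' = j := by
    rw [Scheme.Hom.toImage_imageι_assoc, pullback.lift_fst]
  have h₂ : γ.toImage ≫ γ.imageι ≫ pullback.snd b b' = j' := by
    rw [Scheme.Hom.toImage_imageι_assoc, pullback.lift_snd]
  obtain ⟨e₁⟩ := nonempty_H_of_dominating j γ.toImage (γ.imageι ≫ pullback.fst b b') h₁ G hG q
  obtain ⟨e₂⟩ := nonempty_H_of_dominating j' γ.toImage (γ.imageι ≫ pullback.snd b b') h₂ G hG q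
  exact ⟨e₁.symm.trans e₂⟩

/-- A sheaf on a separably closed point is constant with value its cohomology in degree zero. -/
theorem isTorsion_extZero (a : U ⟶ V) [IsOpenImmersion a] {n : ℕ} (hn : 0 < n) :
    EtCoh.IsTorsion ((EtShriek.extZero a).obj (cn U n)) :=
  Groth.Agent.EtShLib.isTorsion_of_iso ((extZeroPreIso a ≪≫ (lowerShriekIso a).symm).app _).symm
    (EtPBCProperLib.isTorsion_lowerShriek a _ (isTorsion_cn U hn))

end EtPnCohLib

end
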