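import Groth.Agent.GenusZeroLib.PSmooth
import Groth.Agent.GenusZeroLib.PSpace
import Groth.Agent.VBHypLib.Hyp
import Groth.Agent.GradedCechLib.Chart

/-!
# A chart and the hyperplane at infinity
-/

set_option autoImplicit false
set_option linter.all false
set_option backward.isDefEq.respectTransparency false
set_option backward.isDefEq.respectTransparency.types false
set_option maxHeartbeats 1000000

universe u

open CategoryTheory CategoryTheory.Limits AlgebraicGeometry TopologicalSpace Opposite

noncomputable section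

namespace EtPnCohLib

variable (K : Type u) [Field K]

/-- Affine space. -/
abbrev AS (r : ℕ) : Scheme.{u} := Spec (CommRingCat.of (MvPolynomial (Fin r) K))

/-- The structure morphism of affine space. -/
abbrev sA (r : ℕ) : AS K r ⟶ Spec (CommRingCat.of K) :=
  Spec.map (CommRingCat.ofHom (MvPolynomial.C : K →+* MvPolynomial (Fin r) K))

theorem exists_chart (r : ℕ) : ∃ a : AS K r ⟶ CohB1.ProjSpace r K, IsOpenImmersion a ∧
    a ≫ CohB1.ProjSpace.toSpec r K = sA K r ∧
    Set.range a.base = (QCohLib.stdOpen r K 0 : Set (CohB1.ProjSpace r K)) := by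
  let e := (RingEquiv.ofBijective _ (GenusZeroLib.chartPoly_bijective r K 0)).symm
  let κ := GradedCechLib.chartι r K 0
  haveI : IsOpenImmersion κ := inferInstanceAs (IsOpenImmersion (Proj.awayι _ _ _ _))
  haveI : IsIso (Spec.map e.toCommRingCatIso.hom) := inferInstance
  refine ⟨Spec.map e.toCommRingCatIso.hom ≫ κ, inferInstance, ?_, ?_⟩
  · have hκ : κ ≫ CohB1.ProjSpace.toSpec r K =
        Spec.map (CommRingCat.ofHom (GradedCechLib.cst r K (MvPolynomial.X 0))) := by
      simp only [κ, CohB1.ProjSpace.toSpec, GradedCechLib.chartι]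
      erw [Proj.awayι_toSpecZero_assoc, ← Spec.map_comp]
      rfl
    rw [Category.assoc, hκ, ← Spec.map_comp]
    congr 1
    refine CommRingCat.hom_ext (RingHom.ext fun c => ?_)
    show e (GradedCechLib.cst r K (MvPolynomial.X 0) c) = MvPolynomial.C c
    rw [RingEquiv.symm_apply_eq]
    show _ = GenusZeroLib.chartPoly r K 0 (MvPolynomial.C c)
    simp [GenusZeroLib.chartPoly]
  · rw [Scheme.Hom.comp_base, TopCat.coe_comp, Set.range_comp,
      (show Set.range (Spec.map e.toCommRingCatIso.hom).base = Set.univ from Set.range_eq_univ.2 (Spec.map e.toCommRingCatIso.hom).homeomorph.surjective), Set.image_univ]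
    have h2 : κ.opensRange = QCohLib.stdOpen r K 0 := Proj.opensRange_awayι _ _ _ _
    rw [← h2]
    rfl

theorem exists_infinity (r : ℕ) : ∃ i : CohB1.ProjSpace r K ⟶ CohB1.ProjSpace (r + 1) K, IsClosedImmersion i ∧
    i ≫ CohB1.ProjSpace.toSpec (r + 1) K = CohB1.ProjSpace.toSpec r K ∧
    Set.range i.base = (QCohLib.stdOpen (r + 1) K 0 : Set (CohB1.ProjSpace (r + 1) K))ᶜ := by
  classical
  let c : Fin (r + 2) → K := Pi.single 0 1
  have hc : c 0 ≠ 0 := by simp [c]
  have hform : ProjSecLib.form K r (c := c) = MvPolynomial.X 0 := by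
    rw [ProjSecLib.form, Finset.sum_eq_single (0 : Fin (r + 2))]
    · simp [c]
    · intro b _ hb; simp [c, hb]
    · simp
  let φ := ProjSecLib.phi K r c 0
  have hs : Function.Surjective φ := ProjSecLib.phi_surjective K r c 0
  have hφ := ProjClosedLib.irrelevant_le_map φ hs
  have h0 : φ (MvPolynomial.X 0) = 0 := by rw [← hform]; exact ProjSecLib.phi_form K r hc
  refine ⟨Proj.map φ hφ, ProjClosedLib.isClosedImmersion_map φ hs hφ,
    AmpleThLib.map_baseA φ hφ fun a => (show MvPolynomial.aeval (ProjSecLib.phiFun K r c 0) (algebraMap K _ a) = _ from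
      AlgHom.commutes _ a), ?_⟩
  refine Set.ext fun x => ⟨?_, fun hx => ?_⟩
  · rintro ⟨y, rfl⟩ hy
    have h1 : y ∈ (Proj.map φ hφ) ⁻¹ᵁ Proj.basicOpen (CohB1.polyGrading (r + 1) K) (MvPolynomial.X 0) := hy
    rw [Proj.map_preimage_basicOpen, h0, Proj.basicOpen_zero] at h1
    exact h1
  · let P := x.asHomogeneousIdeal.toIdeal
    haveI : P.IsPrime := x.isPrime
    have hX : MvPolynomial.X 0 ∈ P := by
      by_contra h
      exact hx h
    have hker : ∀ a : MvPolynomial (Fin (r + 2)) K, φ a = 0 → a ∈ P := by
      intro a ha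
      rw [← DirectSum.sum_support_decompose (CohB1.polyGrading (r + 1) K) a]
      refine Ideal.sum_mem _ fun i _ => ?_
      have h1 : φ (DirectSum.decompose (CohB1.polyGrading (r + 1) K) a i : MvPolynomial (Fin (r + 2)) K) = 0 := by
        rw [GradedRingHom.map_directSumDecompose, ha]
        simp
      rcases ProjSecLib.exists_eq_form_mul K r hc (SetLike.coe_mem _) h1 with h | ⟨d', b, -, -, h⟩
      · rw [h]; exact P.zero_mem
      · rw [h, hform]; exact P.mul_mem_right _ hX
    let f : MvPolynomial (Fin (r + 2)) K →+* MvPolynomial (Fin (r + 1)) K := RingHomClass.toRingHom φ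
    have hcomap : Ideal.comap f (Ideal.map f P) = P := by
      refine le_antisymm (fun a ha => ?_) Ideal.le_comap_map
      obtain ⟨b, hb, hab⟩ := (Ideal.mem_map_iff_of_surjective f hs).1 ha
      have hk : a - b ∈ P := hker _ (by
        show f (a - b) = 0
        rw [map_sub, hab, sub_self])
      simpa using P.add_mem hk hb
    have hhom : (Ideal.map f P).IsHomogeneous (CohB1.polyGrading r K) := by
      intro i b hb
      obtain ⟨a, ha, rfl⟩ := (Ideal.mem_map_iff_of_surjective f hs).1 hb
      have : (DirectSum.decompose (CohB1.polyGrading r K) (f a) i : MvPolynomial (Fin (r + 1)) K) =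
          f (DirectSum.decompose (CohB1.polyGrading (r + 1) K) a i : MvPolynomial (Fin (r + 2)) K) :=
        (φ.map_directSumDecompose).symm
      rw [this]
      exact Ideal.mem_map_of_mem f (x.asHomogeneousIdeal.2 i ha)
    haveI : (Ideal.map f P).IsPrime := Ideal.map_isPrime_of_surjective hs fun a ha => hker a ha
    refine ⟨⟨⟨Ideal.map f P, hhom⟩, ‹_›, fun hle => x.not_irrelevant_le fun a ha => ?_⟩, ?_⟩
    · show a ∈ P
      rw [← hcomap]
      have h2 : (HomogeneousIdeal.irrelevant (CohB1.polyGrading (r + 1) K)).toIdeal ≤ Ideal.comap f (Ideal.map f P) := by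
        intro z hz
        refine hle ?_
        show f z ∈ (HomogeneousIdeal.irrelevant (CohB1.polyGrading r K)).toIdeal
        refine (HomogeneousIdeal.mem_irrelevant_iff _ _).2 ?_
        have hz' := (HomogeneousIdeal.mem_irrelevant_iff _ _).1 hz
        rw [GradedRing.proj_apply] at hz' ⊢
        rw [show (DirectSum.decompose (CohB1.polyGrading r K) (f z) 0 : MvPolynomial (Fin (r + 1)) K) =
          f (DirectSum.decompose (CohB1.polyGrading (r + 1) K) z 0 : MvPolynomial (Fin (r + 2)) K) from
            (φ.map_directSumDecompose).symm, hz', map_zero]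
      exact h2 ha
    · refine ProjectiveSpectrum.ext (HomogeneousIdeal.toIdeal_injective ?_)
      exact hcomap

end EtPnCohLib

end
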