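import Groth.Agent.S14451

/-!
# Long exact sequences and the edge map in degree one
-/

set_option autoImplicit false
set_option linter.all false
set_option backward.isDefEq.respectTransparency false
set_option backward.isDefEq.respectTransparency.types false
set_option maxHeartbeats 1000000

universe w v v' u'' u'

open CategoryTheory CategoryTheory.Limits CategoryTheory.Abelian
open Groth.Agent

namespace EtPnCohLib

noncomputable section

variable {C : Type u'} [Category.{v} C] [Abelian C] [HasExt.{w} C] (Z : C) {S : ShortComplex C} (hS : S.ShortExact)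

include hS in
theorem les_middle (q : ℕ) (h₁ : Subsingleton (Ext.{w} Z S.X₁ q)) (h₃ : Subsingleton (Ext.{w} Z S.X₃ q)) :
    Subsingleton (Ext.{w} Z S.X₂ q) := by
  refine subsingleton_of_forall_eq 0 fun x => ?_
  obtain ⟨y, rfl⟩ := Ext.covariant_sequence_exact₂ Z hS x (Subsingleton.elim (α := Ext.{w} Z S.X₃ q) _ _)
  rw [Subsingleton.elim (α := Ext.{w} Z S.X₁ q) y 0, Ext.zero_comp]

include hS in
theorem les_left (q : ℕ) (h₀ : Subsingleton (Ext.{w} Z S.X₃ q)) (h₃ : Subsingleton (Ext.{w} Z S.X₃ (q + 1))) :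
    Nonempty (Ext.{w} Z S.X₁ (q + 1) ≃+ Ext.{w} Z S.X₂ (q + 1)) := by
  refine ⟨AddEquiv.ofBijective (TorsBCLib.em.{w} Z S.f (q + 1)) ⟨(injective_iff_map_eq_zero _).2 fun x hx => ?_, fun y => ?_⟩⟩
  · obtain ⟨z, rfl⟩ := Ext.covariant_sequence_exact₁ Z hS x hx (n₀ := q) rfl
    rw [Subsingleton.elim (α := Ext.{w} Z S.X₃ q) z 0, Ext.zero_comp]
  · exact Ext.covariant_sequence_exact₂ Z hS y (Subsingleton.elim (α := Ext.{w} Z S.X₃ (q + 1)) _ _)

include hS in
theorem les_right (q : ℕ) (h₁ : Subsingleton (Ext.{w} Z S.X₁ q)) (h₂ : Subsingleton (Ext.{w} Z S.X₁ (q + 1))) :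
    Nonempty (Ext.{w} Z S.X₂ q ≃+ Ext.{w} Z S.X₃ q) := by
  refine ⟨AddEquiv.ofBijective (TorsBCLib.em.{w} Z S.g q) ⟨(injective_iff_map_eq_zero _).2 fun x hx => ?_, fun y => ?_⟩⟩
  · obtain ⟨z, rfl⟩ := Ext.covariant_sequence_exact₂ Z hS x hx
    rw [Subsingleton.elim (α := Ext.{w} Z S.X₁ q) z 0, Ext.zero_comp]
  · exact Ext.covariant_sequence_exact₃ Z hS y (n₁ := q + 1) rfl (Subsingleton.elim (α := Ext.{w} Z S.X₁ (q + 1)) _ _)

include hS in
theorem les_edge_zero (hg : Function.Injective (TorsBCLib.em.{w} Z S.g 0)) : Subsingleton (Ext.{w} Z S.X₁ 0) := by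
  haveI := hS.mono_f
  refine subsingleton_of_forall_eq 0 fun x => TorsBCLib.em_inj_zero Z S.f ?_
  rw [map_zero]
  refine hg ?_
  rw [TorsBCLib.em_comp, S.zero, TorsBCLib.em_zero, map_zero]

include hS in
theorem les_edge_one (hg : Function.Surjective (TorsBCLib.em.{w} Z S.g 0)) (h₂ : Subsingleton (Ext.{w} Z S.X₂ 1)) :
    Subsingleton (Ext.{w} Z S.X₁ 1) := by
  refine subsingleton_of_forall_eq 0 fun x => ?_
  obtain ⟨y, rfl⟩ := Ext.covariant_sequence_exact₁ Z hS (n₁ := 1) x (Subsingleton.elim (α := Ext.{w} Z S.X₂ 1) _ _) (n₀ := 0) rfl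
  obtain ⟨e, rfl⟩ := hg y
  exact TorsBCLib.g_delta hS rfl e

end

noncomputable section

variable {C : Type u'} [Category.{v} C] [Abelian C] [HasExt.{w} C]
  {D : Type u''} [Category.{v'} D] [Abelian D] [HasExt.{w} D] [EnoughInjectives D]
  {F : C ⥤ D} {G : D ⥤ C} [F.Additive] [G.Additive] (adj : F ⊣ G)
  [PreservesFiniteLimits F] [PreservesFiniteColimits F] [PreservesFiniteLimits G]

include adj in
/-- Degree one cohomology of a direct image injects. -/
theorem ext_one_push (Z : C) (X : D) (h : Subsingleton (Ext.{w} (F.obj Z) X 1)) :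
    Subsingleton (Ext.{w} Z (G.obj X) 1) := by
  haveI : F.PreservesMonomorphisms := inferInstance
  let ip := (EnoughInjectives.presentation X).some
  haveI : Injective ip.J := ip.injective
  let S := ShortComplex.mk ip.f (cokernel.π ip.f) (cokernel.condition _)
  have hS : S.ShortExact := { exact := ShortComplex.exact_of_g_is_cokernel _ (cokernelIsCokernel _) }
  haveI : Mono (G.map S.f) := inferInstanceAs (Mono (G.map ip.f))
  haveI : Injective (G.obj S.X₂) := Injective.injective_of_adjoint adj ip.J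
  let T := ShortComplex.mk (G.map S.f) (cokernel.π (G.map S.f)) (cokernel.condition _)
  have hT : T.ShortExact := { exact := ShortComplex.exact_of_g_is_cokernel _ (cokernelIsCokernel _) }
  have hex : (S.map G).Exact :=
    ((((Functor.preservesFiniteLimits_tfae G).out 3 0 : PreservesFiniteLimits G ↔
      ∀ S : ShortComplex D, S.ShortExact → (S.map G).Exact ∧ Mono (G.map S.f))).1 ‹_› S hS).1
  let m : cokernel (G.map S.f) ⟶ G.obj S.X₃ := cokernel.desc _ (G.map S.g) (S.map G).zero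
  haveI : Mono m := (ShortComplex.exact_iff_mono_cokernel_desc (S.map G)).1 hex
  refine subsingleton_of_forall_eq 0 fun x => ?_
  haveI : Injective T.X₂ := ‹Injective (G.obj S.X₂)›
  obtain ⟨c, rfl⟩ := Ext.covariant_sequence_exact₁ Z hT (n₁ := 1) x (Ext.eq_zero_of_injective _) (n₀ := 0) rfl
  obtain ⟨c, rfl⟩ := (Ext.mk₀_bijective _ _).2 c
  have h0 : (Ext.mk₀ ((adj.homEquiv Z S.X₃).symm (c ≫ m))).comp hS.extClass rfl = 0 :=
    Subsingleton.elim (α := Ext.{w} (F.obj Z) X 1) _ _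
  obtain ⟨e, he⟩ := Ext.covariant_sequence_exact₃ (F.obj Z) hS _ (n₁ := 1) rfl h0
  obtain ⟨e, rfl⟩ := (Ext.mk₀_bijective _ _).2 e
  rw [Ext.mk₀_comp_mk₀] at he
  have h1 : c ≫ m = adj.homEquiv _ _ e ≫ cokernel.π (G.map S.f) ≫ m := by
    rw [cokernel.π_desc, ← Adjunction.homEquiv_naturality_right, (Ext.mk₀_bijective _ _).1 he,
      Equiv.apply_symm_apply]
  rw [← Category.assoc] at h1
  rw [(cancel_mono m).1 h1, ← Ext.mk₀_comp_mk₀]
  exact TorsBCLib.g_delta hT rfl _

end

end EtPnCohLib
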