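import Groth.Agent.EtPnCohLib.Seq
import Groth.Agent.CurveH2Lib.Main
import Groth.Agent.OmegaPnLib.Main
import Groth.Agent.EtPBCCdLib.Main
import Groth.Agent.S3581
import Groth.Agent.S3100

/-!
# The projective line
-/

set_option autoImplicit false
set_option linter.all false
set_option backward.isDefEq.respectTransparency false
set_option backward.isDefEq.respectTransparency.types false
set_option maxHeartbeats 2000000
set_option synthInstance.maxHeartbeats 400000

universe u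

open CategoryTheory CategoryTheory.Limits CategoryTheory.Abelian AlgebraicGeometry Opposite
open Groth.Agent Groth.Agent.EtShLib

attribute [local instance] EtSliceLib.pullExact

noncomputable section

namespace EtPnCohLib

theorem natCard_hom_cn {Y : Scheme.{u}} [ConnectedSpace Y] (n : ℕ) :
    Nat.card (EtCoh.const Y ℤ ⟶ cn Y n) = n := by
  obtain ⟨e⟩ := EtSmAcycLib.nonempty_H_zero_const_connected (Y := Y) (ZMod n)
  have h : Nat.card (EtCoh.H Y (cn Y n) 0) = n := (Nat.card_congr e.toEquiv).trans (Nat.card_zmod n)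
  exact (Nat.card_congr (Equiv.ofBijective _ (Ext.mk₀_bijective (EtCoh.const Y ℤ) (cn Y n)))).trans h

/-- Sheaf maps between constant sheaves pulled back. -/
def Φ {S P : Scheme.{u}} (b : P ⟶ S) (n : ℕ) (a : EtCoh.const S ℤ ⟶ cn S n) : EtCoh.const P ℤ ⟶ cn P n :=
  (EtCore.pullConst b ℤ).inv ≫ (EtCoh.pull b).map a ≫ (EtCore.pullConst b (ZMod n)).hom

theorem eq_zero_of_conj {C D : Type*} [Category C] [Category D] [Preadditive D] [Limits.HasZeroMorphisms C] (F : C ⥤ D)
    {A A' B B' : C} (i : A ≅ A') (j : B ≅ B') (g : A ⟶ B) (h : F.map (i.inv ≫ g ≫ j.hom) = 0) : F.map g = 0 := by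
  have e : F.map g = F.map i.hom ≫ F.map (i.inv ≫ g ≫ j.hom) ≫ F.map j.inv := by
    simp [← Functor.map_comp]
  rw [e, h, zero_comp, comp_zero]

theorem map_eq_zero_of_iso {C D : Type*} [Category C] [Category D] [Preadditive D] {F G : C ⥤ D} (N : F ≅ G)
    {A B : C} (g : A ⟶ B) (h : F.map g = 0) : G.map g = 0 := by
  have h2 := N.hom.naturality g
  rw [h, zero_comp] at h2
  exact (Preadditive.IsIso.comp_left_eq_zero (N.hom.app _) _).1 h2.symm

theorem Φ_eq_zero {S P : Scheme.{u}} (b : P ⟶ S) (s : S ⟶ P) (hs : s ≫ b = 𝟙 S) (n : ℕ)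
    (a : EtCoh.const S ℤ ⟶ cn S n) (h : (EtCoh.pull s).map (Φ b n a) = 0) : a = 0 := by
  obtain ⟨e⟩ := EtProperConsLib.nonempty_pull_id S
  have h1 : (EtCoh.pull s).map ((EtCoh.pull b).map a) = 0 := eq_zero_of_conj (EtCoh.pull s) _ _ _ h
  have h2 : (EtCoh.pull (s ≫ b)).map a = 0 := map_eq_zero_of_iso (EtCore.pullComp s b).symm a h1
  have h3 : (EtCoh.pull (𝟙 S)).map a = 0 := map_eq_zero_of_iso (EtCore.pullCongr hs) a h2
  exact map_eq_zero_of_iso e a h3

theorem Φ_bijective {S P : Scheme.{u}} [ConnectedSpace S] [ConnectedSpace P] (b : P ⟶ S) (s : S ⟶ P)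
    (hs : s ≫ b = 𝟙 S) (n : ℕ) (hn : 0 < n) : Function.Bijective (Φ b n) := by
  haveI : (EtCoh.pull s).Additive := (EtCoh.pullPushAdj s).left_adjoint_additive
  haveI : (EtCoh.pull b).Additive := (EtCoh.pullPushAdj b).left_adjoint_additive
  have hfin : Finite (EtCoh.const P ℤ ⟶ cn P n) := Nat.finite_of_card_ne_zero (by rw [natCard_hom_cn]; omega)
  have hinj : Function.Injective (Φ b n) := fun a a' h => by
    refine sub_eq_zero.1 (Φ_eq_zero b s hs n (a - a') ?_)
    have : Φ b n (a - a') = Φ b n a - Φ b n a' := by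
      simp [Φ, Functor.map_sub, Preadditive.comp_sub, Preadditive.sub_comp]
    rw [this, h, sub_self, Functor.map_zero]
  exact hinj.bijective_of_nat_card_le (by rw [natCard_hom_cn, natCard_hom_cn])

theorem injective_unit_zero {S P Z : Scheme.{u}} [ConnectedSpace S] [ConnectedSpace P]
    (b : P ⟶ S) (i : Z ⟶ P) [IsIso (i ≫ b)] (n : ℕ) (hn : 0 < n) :
    Function.Injective (TorsBCLib.em.{u + 1} (EtCoh.const P ℤ) ((EtCoh.pullPushAdj i).unit.app (cn P n)) 0) := by
  let s := inv (i ≫ b) ≫ i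
  have hs : s ≫ b = 𝟙 S := by rw [Category.assoc, IsIso.inv_hom_id]
  haveI : (EtCoh.pull i).Additive := (EtCoh.pullPushAdj i).left_adjoint_additive
  haveI : (EtCoh.pull (inv (i ≫ b))).Additive := (EtCoh.pullPushAdj (inv (i ≫ b))).left_adjoint_additive
  refine (injective_iff_map_eq_zero _).2 fun x hx => ?_
  obtain ⟨a, rfl⟩ := (Ext.mk₀_bijective _ _).2 x
  rw [TorsBCLib.em_apply, Ext.mk₀_comp_mk₀, ← Ext.mk₀_zero (X := EtCoh.const P ℤ)] at hx
  have h1 : a ≫ (EtCoh.pullPushAdj i).unit.app (cn P n) = 0 := (Ext.mk₀_bijective _ _).1 hx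
  have h2 : (EtCoh.pull i).map a = 0 := ((EtCoh.pullPushAdj i).homEquiv _ _).injective (by
    rw [Adjunction.homEquiv_unit, Adjunction.homEquiv_unit, Functor.map_zero, comp_zero]
    exact ((EtCoh.pullPushAdj i).unit.naturality a).symm.trans h1)
  have h3 : (EtCoh.pull i ⋙ EtCoh.pull (inv (i ≫ b))).map a = 0 :=
    (congrArg (EtCoh.pull (inv (i ≫ b))).map h2).trans (Functor.map_zero _ _ _)
  have h4 : (EtCoh.pull s).map a = 0 := map_eq_zero_of_iso (EtCore.pullComp (inv (i ≫ b)) i).symm a h3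
  obtain ⟨a', rfl⟩ := (Φ_bijective b s hs n hn).2 a
  rw [Φ_eq_zero b s hs n a' h4]
  simp [Φ]

/-- Restriction of global sections to a rational point. -/
theorem bijective_unit_zero {S P Z : Scheme.{u}} [ConnectedSpace S] [ConnectedSpace P] [ConnectedSpace Z]
    (b : P ⟶ S) (i : Z ⟶ P) [IsClosedImmersion i] [IsIso (i ≫ b)] (n : ℕ) (hn : 0 < n) :
    Function.Bijective (TorsBCLib.em.{u + 1} (EtCoh.const P ℤ) ((EtCoh.pullPushAdj i).unit.app (cn P n)) 0) := by
  obtain ⟨e₁⟩ := EtSmAcycLib.nonempty_H_zero_const_connected (Y := P) (ZMod n)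
  obtain ⟨e₂⟩ := EtSmAcycLib.nonempty_H_zero_const_connected (Y := Z) (ZMod n)
  obtain ⟨e₃⟩ := nonempty_H_congr ((EtCoh.push i).mapIso (EtCore.pullConst i (ZMod n))) 0
  obtain ⟨e₄⟩ := nonempty_H_push i (cn Z n) (fun p hp => EtStrictAcycLib.isZero_Rpush_finite i _ p hp) 0
  let E : Ext.{u + 1} (EtCoh.const P ℤ) ((EtCoh.push i).obj ((EtCoh.pull i).obj (cn P n))) 0 ≃ ZMod n :=
    ((e₃.trans e₄).trans e₂).toEquiv
  haveI : NeZero n := ⟨hn.ne'⟩
  haveI : Finite (Ext.{u + 1} (EtCoh.const P ℤ) ((EtCoh.pull i ⋙ EtCoh.push i).obj (cn P n)) 0) :=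
    Finite.of_equiv _ E.symm
  exact (injective_unit_zero b i n hn).bijective_of_nat_card_le
    (le_of_eq ((Nat.card_congr E).trans (Nat.card_congr e₁.toEquiv).symm))

variable (K : Type u) [Field K] [IsAlgClosed K] (n : ℕ) (hn : (n : K) ≠ 0)

include hn in
theorem subsingleton_H1_line : Subsingleton (EtCoh.H (CohB1.ProjSpace 1 K) (cn (CohB1.ProjSpace 1 K) n) 1) := by
  obtain ⟨c, _, hc, -⟩ := exists_chart K 1
  let a := (lineIso (K := K)).hom ≫ c
  let P := CohB1.ProjSpace 1 K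
  let b := CohB1.ProjSpace.toSpec 1 K
  haveI : Smooth b := (OmegaPnLib.smoothRel_projSpace K 1).smooth
  haveI : IrreducibleSpace P := GenusZeroLib.irreducibleSpace_projSpace K 1
  have hd : ∀ x : P, x ∈ closure (Set.range a ∩ {y : P | b.base y = b.base x}) := fun x => by
    have h1 : {y : P | b.base y = b.base x} = Set.univ :=
      Set.eq_univ_of_forall fun y => Subsingleton.elim (α := PrimeSpectrum K) _ _
    haveI : Nonempty (Spec (CommRingCat.of (Polynomial K))) := inferInstanceAs (Nonempty (PrimeSpectrum _))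
    rw [h1, Set.inter_univ]
    exact (a.isOpenEmbedding.isOpen_range.dense (Set.range_nonempty _)) x
  haveI h0 := Groth.Agent.S3100.result b a hd (cn (Spec (CommRingCat.of K)) n)
  let e := EtCore.pullConst b (ZMod n)
  haveI : IsIso ((EtCoh.pullPushAdj a).unit.app (cn P n)) := by
    have h2 := (EtCoh.pullPushAdj a).unit.naturality e.hom
    haveI : IsIso ((𝟭 (EtCoh.Ab P)).map e.hom) := inferInstanceAs (IsIso e.hom)
    haveI : IsIso ((𝟭 (EtCoh.Ab P)).map e.hom ≫ (EtCoh.pullPushAdj a).unit.app (cn P n)) := by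
      rw [h2]; infer_instance
    exact IsIso.of_isIso_comp_left ((𝟭 (EtCoh.Ab P)).map e.hom) _
  haveI : PreservesLimitsOfSize.{0, 0} (EtCoh.push a) := (EtCoh.pullPushAdj a).rightAdjoint_preservesLimits
  haveI : PreservesFiniteLimits (EtCoh.push a) := PreservesLimitsOfSize.preservesFiniteLimits _
  haveI : PreservesColimitsOfSize.{0, 0} (EtCoh.pull a) := (EtCoh.pullPushAdj a).leftAdjoint_preservesColimits
  haveI : PreservesFiniteColimits (EtCoh.pull a) := PreservesColimitsOfSize.preservesFiniteColimits _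
  haveI : (EtCoh.push a).Additive := (EtCoh.pullPushAdj a).right_adjoint_additive
  haveI : (EtCoh.pull a).Additive := (EtCoh.pullPushAdj a).left_adjoint_additive
  obtain ⟨i⟩ := nonempty_ext_pullConst a ((EtCoh.pull a).obj (cn P n)) 1
  haveI hA : Subsingleton (EtCoh.H _ (cn (Spec (CommRingCat.of (Polynomial K))) n) 1) := by
    exact EtSmAcycLib.subsingleton_H1_aLine K n hn
  obtain ⟨k⟩ := nonempty_H_congr (EtCore.pullConst a (ZMod n)) 1
  haveI : Subsingleton (EtCoh.H P ((EtCoh.pull a ⋙ EtCoh.push a).obj (cn P n)) 1) :=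
    ext_one_push (EtCoh.pullPushAdj a) (EtCoh.const P ℤ) ((EtCoh.pull a).obj (cn P n))
      ((i.trans k).toEquiv.subsingleton)
  haveI : Subsingleton ↑((EtCoh.HF P 1).obj ((EtCoh.pull a ⋙ EtCoh.push a).obj (cn P n))) :=
    ‹Subsingleton (EtCoh.H P ((EtCoh.pull a ⋙ EtCoh.push a).obj (cn P n)) 1)›
  exact ((EtCoh.HF P 1).mapIso (asIso ((EtCoh.pullPushAdj a).unit.app (cn P n)))).addCommGroupIsoToAddEquiv.toEquiv.subsingleton

include hn in
theorem good_one : Good K n 1 := by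
  have hn0 : 0 < n := Nat.pos_of_ne_zero fun e => hn (by rw [e, Nat.cast_zero])
  obtain ⟨a, _, ha, hra⟩ := exists_chart K 1
  obtain ⟨i, _, hi, hri⟩ := exists_infinity K 0
  let P := CohB1.ProjSpace 1 K
  haveI : IsProper (CohB1.ProjSpace.toSpec 1 K) := ProjDegLib.toSpec_isProper K 1
  haveI : IrreducibleSpace P := GenusZeroLib.irreducibleSpace_projSpace K 1
  haveI : IrreducibleSpace (CohB1.ProjSpace 0 K) := GenusZeroLib.irreducibleSpace_projSpace K 0
  haveI : IsIso (i ≫ CohB1.ProjSpace.toSpec 1 K) := by rw [hi]; exact Groth.Agent.S3581.result K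
  obtain ⟨A, f, w, hS, hA, hZ⟩ := exists_seq a i (by rw [hra, hri, compl_compl]) n
  let Z := CohB1.ProjSpace 0 K
  let e0 : Z ≅ Spec (CommRingCat.of K) :=
    haveI := Groth.Agent.S3581.result K
    asIso (CohB1.ProjSpace.toSpec 0 K)
  have hZv : ∀ q, 1 ≤ q → Subsingleton (EtCoh.H Z (cn Z n) q) := fun q hq => by
    obtain ⟨m, rfl⟩ : ∃ m, q = m + 1 := ⟨q - 1, by omega⟩
    exact EtSmAcycLib.subsingleton_H_of_iso e0 n (m + 1) (LocAcycPointLib.subsingleton_H_finite (𝟙 _) _ m)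
  have h₃ : ∀ q, 1 ≤ q → Subsingleton (EtCoh.H P ((EtCoh.push i).obj ((EtCoh.pull i).obj (cn P n))) q) := fun q hq => by
    haveI := hZv q hq
    obtain ⟨z⟩ := hZ q
    exact z.toEquiv.subsingleton
  haveI : IsIntegral P := GenusZeroLib.isIntegral_projSpace K 1
  haveI : IsProper (P ↘ Spec (CommRingCat.of K)) := ‹IsProper (CohB1.ProjSpace.toSpec 1 K)›
  haveI : Smooth (P ↘ Spec (CommRingCat.of K)) := (OmegaPnLib.smoothRel_projSpace K 1).smooth
  have hdim : topologicalKrullDim ↥P = 1 := by exact_mod_cast GenusZeroLib.dim_projSpace K 1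
  have hb := bijective_unit_zero (CohB1.ProjSpace.toSpec 1 K) i n hn0
  have hH1 := subsingleton_H1_line K n hn
  have hcd : ∀ q, 3 ≤ q → Subsingleton (EtCoh.H P (cn P n) q) := fun q hq =>
    EtPBCCdLib.cdBound 1 K P (CohB1.ProjSpace.toSpec 1 K) (le_of_eq (by exact_mod_cast hdim)) _ (isTorsion_cn P hn0) q (by omega)
  have hX1 : HcTop n 2 A := by
    refine ⟨fun q hq => ?_, ?_⟩
    · rcases (by omega : q = 0 ∨ q = 1 ∨ 3 ≤ q) with rfl | rfl | h
      · exact les_edge_zero (EtCoh.const P ℤ) hS hb.1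
      · exact les_edge_one (EtCoh.const P ℤ) hS hb.2 hH1
      · obtain ⟨m, rfl⟩ : ∃ m, q = m + 1 := ⟨q - 1, by omega⟩
        obtain ⟨e⟩ := les_left (EtCoh.const P ℤ) hS m (h₃ m (by omega)) (h₃ (m + 1) (by omega))
        haveI := hcd (m + 1) h
        exact e.toEquiv.subsingleton
    · obtain ⟨e⟩ := les_left (EtCoh.const P ℤ) hS 1 (h₃ 1 le_rfl) (h₃ 2 (by omega))
      obtain ⟨h2⟩ := CurveH2Lib.nonempty_H2_mu K P hdim n hn
      obtain ⟨μ⟩ := CurveH2Lib.mu_iso_const K (CohB1.ProjSpace.toSpec 1 K) n hn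
      obtain ⟨c⟩ := nonempty_H_congr μ 2
      exact ⟨e.trans (c.symm.trans h2)⟩
  exact good_of_exists hn0 1 (CohB1.ProjSpace.toSpec 1 K) a ha
    (hX1.of_equiv fun q => by obtain ⟨z⟩ := hA q; exact ⟨z.symm⟩)

end EtPnCohLib

end
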