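import Groth.Agent.EtPnCohLib.Compact
import Groth.Agent.EtPBCProperLib.Point
import Groth.Agent.EtPBCProperLib.Stalk

/-!
# Direct images to a separably closed point
-/

set_option autoImplicit false
set_option linter.all false
set_option backward.isDefEq.respectTransparency false
set_option backward.isDefEq.respectTransparency.types false
set_option maxHeartbeats 2000000
set_option synthInstance.maxHeartbeats 400000

universe u

open CategoryTheory CategoryTheory.Limits CategoryTheory.Abelian AlgebraicGeometry Opposite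
open Groth.Agent Groth.Agent.EtShLib

attribute [local instance] EtSliceLib.pullExact

noncomputable section

namespace EtPnCohLib

variable {K : Type u} [Field K] [IsSepClosed K] {P : Scheme.{u}} (b : P ⟶ Spec (CommRingCat.of K)) [IsProper b]

/-- A direct image to a separably closed point is the constant sheaf on the cohomology. -/
theorem exists_Rpush_point (G : EtCoh.Ab P) (hG : EtCoh.IsTorsion G) (q : ℕ) :
    ∃ M : AddCommGrpCat.{u + 1}, Nonempty (M ≃+ EtCoh.H P G q) ∧
      Nonempty ((EtCoh.Rpush b q).obj G ≅ (constantSheaf _ AddCommGrpCat.{u + 1}).obj M) := by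
  obtain ⟨M, ⟨e⟩⟩ := EtPBCProperLib.exists_iso_const K ((EtCoh.Rpush b q).obj G)
  refine ⟨M, ?_, ⟨e⟩⟩
  let S := Spec (CommRingCat.of K)
  let ξ : Spec (CommRingCat.of K) ⟶ S := 𝟙 S
  let w : Fib ξ (EtCoh.top S) := Fib.mk ξ (Category.comp_id _)
  haveI : IsIso (cstUnit S M ≫ germ ξ ((constantSheaf _ AddCommGrpCat.{u + 1}).obj M) (EtCoh.top S) w) :=
    isCst_cstUnit (A := AddCommGrpCat.{u + 1}) M K ξ w
  let e₁ := asIso (cstUnit S M ≫ germ ξ ((constantSheaf _ AddCommGrpCat.{u + 1}).obj M) (EtCoh.top S) w) ≪≫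
    (stk (A := AddCommGrpCat.{u + 1}) ξ).mapIso e.symm
  obtain ⟨e₂⟩ := EtPBCProperLib.nonempty_stalk_iso b ξ G hG q
  haveI : IsIso (pullback.fst b ξ) := inferInstanceAs (IsIso (pullback.fst b (𝟙 S)))
  obtain ⟨e₃⟩ := nonempty_H_pull_iso (pullback.fst b ξ) G q
  exact ⟨((e₁ ≪≫ e₂).addCommGroupIsoToAddEquiv).trans e₃⟩

theorem isZero_Rpush_point (G : EtCoh.Ab P) (hG : EtCoh.IsTorsion G) (q : ℕ)
    (h : Subsingleton (EtCoh.H P G q)) : IsZero ((EtCoh.Rpush b q).obj G) := by
  obtain ⟨M, ⟨a⟩, ⟨e⟩⟩ := exists_Rpush_point b G hG q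
  haveI : Subsingleton M := a.toEquiv.subsingleton
  exact ((constantSheaf _ AddCommGrpCat.{u + 1}).map_isZero (AddCommGrpCat.isZero_of_subsingleton M)).of_iso e

theorem nonempty_Rpush_point (G : EtCoh.Ab P) (hG : EtCoh.IsTorsion G) (q n : ℕ)
    (h : Nonempty (EtCoh.H P G q ≃+ ZMod n)) :
    Nonempty ((EtCoh.Rpush b q).obj G ≅ cn (Spec (CommRingCat.of K)) n) := by
  obtain ⟨M, ⟨a⟩, ⟨e⟩⟩ := exists_Rpush_point b G hG q
  obtain ⟨h⟩ := h
  let i : M ≅ AddCommGrpCat.of (ULift.{u + 1} (ZMod n)) :=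
    ((a.trans h).trans AddEquiv.ulift.symm).toAddCommGrpIso
  exact ⟨e ≪≫ (constantSheaf _ AddCommGrpCat.{u + 1}).mapIso i⟩

end EtPnCohLib

end
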