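import Groth.Agent.EtPnCohLib.Seq
import Groth.Agent.EtPnCohLib.Line
import Groth.Agent.EtSmAcycLib.AffSpace
import Groth.Agent.EtSmAcycLib.Nearby
import Groth.Agent.LocAcycPointLib.Main
import Groth.Agent.CurveH2Lib.Main

/-!
# Constant sheaves on finite discrete schemes; the cokernel of an injection `ℤ/n → (ℤ/n)^r`
-/

set_option autoImplicit false
set_option linter.all false
set_option backward.isDefEq.respectTransparency false
set_option backward.isDefEq.respectTransparency.types false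
set_option maxHeartbeats 2000000
set_option synthInstance.maxHeartbeats 400000

universe u

open CategoryTheory CategoryTheory.Limits CategoryTheory.Abelian AlgebraicGeometry Opposite
open Groth.Agent Groth.Agent.EtShLib EtRpushStalkLib

attribute [local instance] EtSliceLib.pullExact

noncomputable section

namespace EtPnCohLib

theorem nonempty_H_zero_discrete {Y : Scheme.{u}} [DiscreteTopology Y] (M : Type) [AddCommGroup M] :
    Nonempty (EtCoh.H Y (EtCoh.const Y M) 0 ≃+ (Y → M)) := by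
  obtain ⟨hT⟩ := isTerminal_top Y
  let F := EtCoh.const Y M
  obtain ⟨k⟩ := AicVanishLib.exists_zobj_hom (T := EtCoh.top Y) (U := (⊤ : Y.Opens)) (fun x _ => trivial)
  let e : EtCoh.top Y ≅ AicVanishLib.zobj (⊤ : Y.Opens) :=
    ⟨k, AicVanishLib.toTop _, AicVanishLib.toTop_ext _ _, AicVanishLib.zobj_hom_ext _ _⟩
  let pt : Y → Y.Opens := fun y => ⟨{y}, isOpen_discrete _⟩
  have hb : ∀ y, Function.Bijective (AicVanishLib.cst M (pt y)) := fun y =>
    ⟨fun m m' h => AicVanishLib.cst_injective M (U := pt y) (x := y) rfl h, fun s => by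
      obtain ⟨W, hW, m, hyW, hm⟩ := AicVanishLib.exists_local_cst M (U := pt y) s (x := y) rfl
      refine ⟨m, ?_⟩
      have hWe : pt y ≤ W := fun z hz => by rw [show z = y from hz]; exact hyW
      calc AicVanishLib.cst M (pt y) m = AicVanishLib.res _ hWe (AicVanishLib.cst M W m) :=
            (AicVanishLib.res_cst M hWe m).symm
        _ = AicVanishLib.res _ hWe (AicVanishLib.res _ hW s) := by rw [hm]
        _ = s := by rw [AicVanishLib.res_res, AicVanishLib.res_refl]⟩
  let c : ∀ y, M ≃+ EtCoh.sect F (AicVanishLib.zobj (pt y)) := fun y => AddEquiv.ofBijective _ (hb y)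
  let ev : EtCoh.sect F (AicVanishLib.zobj (⊤ : Y.Opens)) →+ (Y → M) :=
    Pi.addMonoidHom fun y => (c y).symm.toAddMonoidHom.comp (AicVanishLib.res F (le_top : pt y ≤ ⊤))
  have hev : Function.Bijective ev := by
    refine ⟨fun s t h => AicVanishLib.sect_ext F s t fun x _ => ⟨pt x, le_top, rfl, (c x).symm.injective (congrFun h x)⟩,
      fun φ => ?_⟩
    obtain ⟨s, hs⟩ := AicVanishLib.exists_section M (U := (⊤ : Y.Opens)) φ
      (fun x _ => Filter.eventually_of_mem ((isOpen_discrete ({x} : Set Y)).mem_nhds rfl) fun y hy => by rw [show y = x from hy])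
    refine ⟨s, funext fun y => ?_⟩
    show (c y).symm (AicVanishLib.res F (le_top : pt y ≤ ⊤) s) = φ y
    rw [hs (pt y) le_top (φ y) fun z hz => by rw [show z = y from hz]]
    exact (c y).symm_apply_apply (φ y)
  exact ⟨(Sheaf.H.equiv₀ F hT).trans
    ((F.obj.mapIso e.symm.op).addCommGroupIsoToAddEquiv.trans (AddEquiv.ofBijective ev hev))⟩

theorem exists_add_mul_isUnit {n : ℕ} [NeZero n] (a b : ZMod n) (h : ∃ x y, x * a + y * b = 1) :
    ∃ c, IsUnit (a + c * b) := by
  let d : ℕ := ∏ p ∈ n.primeFactors.filter (fun p => ¬ p ∣ a.val), p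
  refine ⟨d, ?_⟩
  obtain ⟨x, y, hxy⟩ := h
  have key : ∀ p ∈ n.primeFactors, ¬ p ∣ a.val + d * b.val := by
    intro p hp hdiv
    have hpp := (Nat.prime_of_mem_primeFactors hp)
    by_cases ha : p ∣ a.val
    · have hpd : ¬ p ∣ d := by
        intro hpd
        obtain ⟨q, hq, hpq⟩ := (hpp.prime.dvd_finsetProd_iff _).1 hpd
        rw [Finset.mem_filter] at hq
        have := (Nat.prime_dvd_prime_iff_eq hpp (Nat.prime_of_mem_primeFactors hq.1)).1 hpq
        exact hq.2 (this ▸ ha)
      have hb : p ∣ b.val := ((hpp.dvd_mul).1 ((Nat.dvd_add_right ha).1 hdiv)).resolve_left hpd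
      haveI : Fact p.Prime := ⟨hpp⟩
      let φ := ZMod.castHom (Nat.dvd_of_mem_primeFactors hp) (ZMod p)
      have h1 := congrArg φ hxy
      have ha0 : φ a = 0 := by
        rw [← ZMod.natCast_zmod_val a, map_natCast]; exact (ZMod.natCast_eq_zero_iff _ _).2 ha
      have hb0 : φ b = 0 := by
        rw [← ZMod.natCast_zmod_val b, map_natCast]; exact (ZMod.natCast_eq_zero_iff _ _).2 hb
      rw [map_add, map_mul, map_mul, map_one, ha0, hb0] at h1
      simp at h1
    · have hpd : p ∣ d := Finset.dvd_prod_of_mem _ (Finset.mem_filter.2 ⟨hp, ha⟩)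
      exact ha ((Nat.dvd_add_left (hpd.mul_right _)).1 hdiv)
  have hcop : Nat.Coprime (a.val + d * b.val) n := by
    refine Nat.coprime_of_dvd fun p hpp h1 h2 => key p ?_ h1
    exact Nat.mem_primeFactors.2 ⟨hpp, h2, NeZero.ne n⟩
  have := (ZMod.isUnit_iff_coprime _ _).2 hcop
  simpa using this

theorem exists_unimodular {n : ℕ} [NeZero n] {r : ℕ} (v : Fin r → ZMod n)
    (hv : ∀ t : ZMod n, (∀ i, t * v i = 0) → t = 0) : ∃ w : Fin r → ZMod n, ∑ i, w i * v i = 1 := by
  let I := Ideal.span (Set.range v)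
  have hI : (1 : ZMod n) ∈ I := by
    haveI : IsPrincipalIdealRing (ZMod n) :=
      IsPrincipalIdealRing.of_surjective (Int.castRingHom (ZMod n)) ZMod.intCast_surjective
    obtain ⟨g, hg⟩ := (IsPrincipalIdealRing.principal I).principal
    rw [hg]
    have hgu : IsUnit g := by
      rw [isUnit_iff_mem_nonZeroDivisors_of_finite, mem_nonZeroDivisors_iff_right]
      intro t ht
      refine hv t fun i => ?_
      have hmem : v i ∈ Submodule.span (ZMod n) {g} := hg ▸ Ideal.subset_span ⟨i, rfl⟩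
      obtain ⟨z, hz⟩ := Submodule.mem_span_singleton.1 hmem
      rw [← hz, smul_eq_mul, mul_left_comm, ht, mul_zero]
    obtain ⟨g, rfl⟩ := hgu
    exact Submodule.mem_span_singleton.2 ⟨↑g⁻¹, by rw [smul_eq_mul, Units.inv_mul]⟩
  exact Ideal.mem_span_range_iff_exists_fun.1 hI

/-- The cokernel of an injection `ℤ/n → (ℤ/n)^(r+1)` is free of rank `r`. -/
theorem exists_cokernel {n : ℕ} [NeZero n] {r : ℕ} (φ : ZMod n →+ (Fin (r + 1) → ZMod n))
    (hφ : Function.Injective φ) :
    ∃ q : (Fin (r + 1) → ZMod n) →+ (Fin r → ZMod n), Function.Surjective q ∧ q.ker = φ.range := by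
  let v := φ 1
  have hφv : ∀ t : ZMod n, φ t = t • v := fun t => by
    have h := map_nsmul φ t.val 1
    rw [nsmul_eq_mul, mul_one, ZMod.natCast_zmod_val] at h
    rw [h, ← Nat.cast_smul_eq_nsmul (ZMod n), ZMod.natCast_zmod_val]
  have hv : ∀ t : ZMod n, (∀ i, t * v i = 0) → t = 0 := fun t ht =>
    hφ ((hφv t).trans ((funext ht : t • v = 0).trans (map_zero φ).symm))
  obtain ⟨w, hw⟩ := exists_unimodular v hv
  obtain ⟨c, hc⟩ := exists_add_mul_isUnit (v 0) (∑ i : Fin r, w i.succ * v i.succ)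
    ⟨w 0, 1, by rw [one_mul]; rw [Fin.sum_univ_succ] at hw; exact hw⟩
  obtain ⟨u, hu⟩ := hc
  let lead : (Fin (r + 1) → ZMod n) → ZMod n := fun x => x 0 + c * ∑ i : Fin r, w i.succ * x i.succ
  let q : (Fin (r + 1) → ZMod n) →+ (Fin r → ZMod n) := AddMonoidHom.mk'
    (fun x i => x i.succ - lead x * ↑u⁻¹ * v i.succ) (fun x y => funext fun i => by
      simp only [lead, Pi.add_apply, mul_add, Finset.sum_add_distrib]; ring)
  refine ⟨q, fun y => ⟨Fin.cons (-(c * ∑ i : Fin r, w i.succ * y i)) y, funext fun i => ?_⟩, ?_⟩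
  · simp [q, lead]
  · ext x
    rw [AddMonoidHom.mem_ker, AddMonoidHom.mem_range]
    constructor
    · intro hx
      have hx' : ∀ i : Fin r, x i.succ = lead x * ↑u⁻¹ * v i.succ := fun i => sub_eq_zero.1 (congrFun hx i)
      refine ⟨lead x * ↑u⁻¹, ?_⟩
      rw [hφv]
      funext i
      refine Fin.cases ?_ (fun i => (hx' i).symm) i
      show lead x * ↑u⁻¹ * v 0 = x 0
      have hs : ∑ i : Fin r, w i.succ * x i.succ = lead x * ↑u⁻¹ * ∑ i : Fin r, w i.succ * v i.succ := by
        rw [Finset.mul_sum]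
        exact Finset.sum_congr rfl fun i _ => by rw [hx' i]; ring
      have hl : lead x = x 0 + c * ∑ i : Fin r, w i.succ * x i.succ := rfl
      rw [hs] at hl
      have hu' : (↑u⁻¹ : ZMod n) * (v 0 + c * ∑ i : Fin r, w i.succ * v i.succ) = 1 := by rw [← hu, Units.inv_mul]
      linear_combination hl + lead x * hu'
    · rintro ⟨t, rfl⟩
      rw [hφv]
      funext i
      show t * v i.succ - lead (t • v) * ↑u⁻¹ * v i.succ = 0
      have hl : lead (t • v) = t * (u : ZMod n) := by
        rw [hu]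
        simp only [lead, Pi.smul_apply, smul_eq_mul]
        simp only [mul_add, Finset.mul_sum]
        congr 1
        exact Finset.sum_congr rfl fun i _ => by ring
      rw [hl, mul_assoc t (u : ZMod n) _, Units.mul_inv, mul_one, sub_self]

/-- Restriction of global sections to a closed subscheme with a rational point. -/
theorem injective_unit_zero_of_point {S P Z : Scheme.{u}} [ConnectedSpace S] [ConnectedSpace P]
    (b : P ⟶ S) (i : Z ⟶ P) (t : S ⟶ Z) (ht : (t ≫ i) ≫ b = 𝟙 S) (n : ℕ) (hn : 0 < n) :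
    Function.Injective (TorsBCLib.em.{u + 1} (EtCoh.const P ℤ) ((EtCoh.pullPushAdj i).unit.app (cn P n)) 0) := by
  haveI : (EtCoh.pull i).Additive := (EtCoh.pullPushAdj i).left_adjoint_additive
  haveI : (EtCoh.pull t).Additive := (EtCoh.pullPushAdj t).left_adjoint_additive
  refine (injective_iff_map_eq_zero _).2 fun x hx => ?_
  obtain ⟨a, rfl⟩ := (Ext.mk₀_bijective _ _).2 x
  rw [TorsBCLib.em_apply, Ext.mk₀_comp_mk₀, ← Ext.mk₀_zero (X := EtCoh.const P ℤ)] at hx
  have h1 : a ≫ (EtCoh.pullPushAdj i).unit.app (cn P n) = 0 := (Ext.mk₀_bijective _ _).1 hx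
  have h2 : (EtCoh.pull i).map a = 0 := ((EtCoh.pullPushAdj i).homEquiv _ _).injective (by
    rw [Adjunction.homEquiv_unit, Adjunction.homEquiv_unit, Functor.map_zero, comp_zero]
    exact ((EtCoh.pullPushAdj i).unit.naturality a).symm.trans h1)
  have h3 : (EtCoh.pull i ⋙ EtCoh.pull t).map a = 0 :=
    (congrArg (EtCoh.pull t).map h2).trans (Functor.map_zero _ _ _)
  have h4 : (EtCoh.pull (t ≫ i)).map a = 0 := map_eq_zero_of_iso (EtCore.pullComp t i).symm a h3
  obtain ⟨a', rfl⟩ := (Φ_bijective b (t ≫ i) ht n hn).2 a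
  rw [Φ_eq_zero b (t ≫ i) ht n a' h4]
  simp [Φ]

end EtPnCohLib

end
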