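import Groth.Agent.EtPnCohLib.Shift
import Groth.Agent.EtPnCohLib.Point
import Groth.Agent.EtPnCohLib.Geometry
import Groth.Agent.EtSmAcycLib.BaseRing
import Groth.Agent.ProjDegLib.Criterion

/-!
# Cohomology with compact supports of affine space
-/

set_option autoImplicit false
set_option linter.all false
set_option backward.isDefEq.respectTransparency false
set_option backward.isDefEq.respectTransparency.types false
set_option maxHeartbeats 2000000
set_option synthInstance.maxHeartbeats 400000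

universe u

open CategoryTheory CategoryTheory.Limits CategoryTheory.Abelian AlgebraicGeometry Opposite
open Groth.Agent Groth.Agent.EtShLib

attribute [local instance] EtSliceLib.pullExact

noncomputable section

namespace EtPnCohLib

/-- The cohomology is `ℤ/n` in one degree only. -/
def HcTop (n d : ℕ) {P : Scheme.{u}} (G : EtCoh.Ab P) : Prop :=
  (∀ q, q ≠ d → Subsingleton (EtCoh.H P G q)) ∧ Nonempty (EtCoh.H P G d ≃+ ZMod n)

theorem HcTop.of_equiv {n d : ℕ} {P Q : Scheme.{u}} {G : EtCoh.Ab P} {G' : EtCoh.Ab Q}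
    (h : HcTop n d G) (e : ∀ q, Nonempty (EtCoh.H Q G' q ≃+ EtCoh.H P G q)) : HcTop n d G' := by
  refine ⟨fun q hq => ?_, ?_⟩
  · haveI := h.1 q hq
    obtain ⟨i⟩ := e q
    exact i.toEquiv.subsingleton
  · obtain ⟨i⟩ := e d
    obtain ⟨j⟩ := h.2
    exact ⟨i.trans j⟩

variable (K : Type u) [Field K] [IsSepClosed K] (n : ℕ)

/-- The computation for affine `r`-space. -/
def Good (r : ℕ) : Prop :=
  ∀ (P : Scheme.{u}) (b : P ⟶ Spec (CommRingCat.of K)) (j : AS K r ⟶ P) [IsOpenImmersion j] [IsProper b],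
    j ≫ b = sA K r → HcTop n (2 * r) ((EtShriek.extZero j).obj (cn (AS K r) n))

variable {K n}

theorem good_of_exists (hn : 0 < n) (r : ℕ) {P : Scheme.{u}} (b : P ⟶ Spec (CommRingCat.of K)) (j : AS K r ⟶ P)
    [IsOpenImmersion j] [IsProper b] (hj : j ≫ b = sA K r)
    (h : HcTop n (2 * r) ((EtShriek.extZero j).obj (cn (AS K r) n))) : Good K n r := by
  intro P' b' j' _ _ hj'
  haveI : IsReduced (AS K r) := inferInstance
  exact h.of_equiv fun q => nonempty_H_independent b' b j' j (hj'.trans hj.symm) (cn (AS K r) n) (isTorsion_cn _ hn) q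

theorem good_zero (hn : 0 < n) : Good K n 0 := by
  haveI : IsIso (CommRingCat.ofHom (MvPolynomial.C : K →+* MvPolynomial (Fin 0) K)) :=
    (ConcreteCategory.isIso_iff_bijective _).2 ⟨MvPolynomial.C_injective _ _, MvPolynomial.C_surjective _⟩
  let S := Spec (CommRingCat.of K)
  refine good_of_exists hn 0 (𝟙 S) (sA K 0) (Category.comp_id _) ?_
  obtain ⟨e⟩ := nonempty_extZero_iso (sA K 0) n
  have h : HcTop n (2 * 0) (cn S n) := by
    refine ⟨fun q hq => ?_, ?_⟩
    · obtain ⟨m, rfl⟩ : ∃ m, q = m + 1 := ⟨q - 1, by omega⟩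
      exact LocAcycPointLib.subsingleton_H_finite (𝟙 S) _ m
    · exact EtSmAcycLib.nonempty_H_zero_const_connected (Y := S) (ZMod n)
  exact h.of_equiv fun q => nonempty_H_congr e.symm q

/-- The sheaf on a product with the line. -/
theorem line_step (hn : 0 < n) {r : ℕ} (hr : Good K n r) {P P₁ A₁ : Scheme.{u}} (b : P ⟶ Spec (CommRingCat.of K))
    [IsProper b] (a : AS K r ⟶ P) [IsOpenImmersion a] (ha : a ≫ b = sA K r)
    (b₁ : P₁ ⟶ Spec (CommRingCat.of K)) [IsProper b₁] (a₁ : A₁ ⟶ P₁) [IsOpenImmersion a₁]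
    (h₁ : HcTop n 2 ((EtShriek.extZero a₁).obj (cn A₁ n))) :
    ∃ (W Q : Scheme.{u}) (J : W ⟶ Q) (_ : IsOpenImmersion J) (c : Q ⟶ Spec (CommRingCat.of K)) (_ : IsProper c)
      (u : W ⟶ AS K r) (v : W ⟶ A₁), IsPullback v u (a₁ ≫ b₁) (sA K r) ∧ J ≫ c = u ≫ sA K r ∧
        HcTop n (2 * (r + 1)) ((EtShriek.extZero J).obj (cn W n)) := by
  let Q := pullback b b₁
  let p := pullback.fst b b₁
  haveI : IsProper p := MorphismProperty.pullback_fst _ _ inferInstance
  let X := pullback p a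
  let jid := pullback.fst p a
  let p' := pullback.snd p a
  haveI : IsProper p' := MorphismProperty.pullback_snd _ _ inferInstance
  let q₁ := jid ≫ pullback.snd b b₁
  have hX : IsPullback q₁ p' b₁ (sA K r) := by
    rw [← ha]
    exact (IsPullback.of_hasPullback p a).paste_horiz (IsPullback.of_hasPullback b b₁).flip
  let W := pullback q₁ a₁
  let jA := pullback.fst q₁ a₁
  have hW : IsPullback (pullback.snd q₁ a₁) (jA ≫ p') (a₁ ≫ b₁) (sA K r) :=
    (IsPullback.of_hasPullback q₁ a₁).flip.paste_vert hX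
  let G := (EtCoh.pull q₁).obj ((EtShriek.extZero a₁).obj (cn A₁ n))
  have hG₁ := isTorsion_extZero a₁ (U := A₁) hn
  obtain ⟨eG⟩ := Groth.Agent.S3120.result q₁ a₁ (cn A₁ n)
  let eG' : G ≅ (EtShriek.extZero jA).obj (cn W n) :=
    eG ≪≫ (EtShriek.extZero jA).mapIso (EtCore.pullConst (pullback.snd q₁ a₁) (ZMod n))
  obtain ⟨eJ⟩ := nonempty_extZero_comp jA jid (cn W n)
  let G' := (EtShriek.extZero jid).obj G
  have hGtor : EtCoh.IsTorsion G := CdCurveLib.isTorsion_pull_map q₁ hG₁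
  have hR : ∀ q, Nonempty ((EtShriek.extZero a).obj ((EtCoh.pull (sA K r)).obj
      ((EtCoh.Rpush b₁ q).obj ((EtShriek.extZero a₁).obj (cn A₁ n)))) ≅ (EtCoh.Rpush p q).obj G') := fun q => by
    obtain ⟨i⟩ := EtProperConsLib.nonempty_pull_Rpush hX hG₁ q
    obtain ⟨k⟩ := EtPBCCdLib.nonempty_extZero_Rpush_iso jid a p' p (IsPullback.of_hasPullback p a).w G hGtor q
    exact ⟨(EtShriek.extZero a).mapIso i ≪≫ k⟩
  have hz : ∀ q, q ≠ 2 → IsZero ((EtCoh.Rpush p q).obj G') := fun q hq => by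
    obtain ⟨i⟩ := hR q
    haveI : PreservesFiniteLimits (EtShriek.extZero a) := preservesFiniteLimits_extZero a
    exact ((EtShriek.extZero a).map_isZero ((EtCoh.pull (sA K r)).map_isZero
      (isZero_Rpush_point b₁ _ hG₁ q (h₁.1 q hq)))).of_iso i.symm
  obtain ⟨i₂⟩ := hR 2
  obtain ⟨c₂⟩ := nonempty_Rpush_point b₁ _ hG₁ 2 n h₁.2
  let e₂ : (EtCoh.Rpush p 2).obj G' ≅ (EtShriek.extZero a).obj (cn (AS K r) n) :=
    i₂.symm ≪≫ (EtShriek.extZero a).mapIso ((EtCoh.pull (sA K r)).mapIso c₂ ≪≫ EtCore.pullConst (sA K r) (ZMod n))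
  obtain ⟨hlow, hhigh⟩ := collapse_two p G' hz
  have hP := hr P b a ha
  have hQ : HcTop n (2 * (r + 1)) G' := by
    refine ⟨fun q hq => ?_, ?_⟩
    · rcases Nat.lt_or_ge q 2 with h | h
      · exact hlow q h
      · obtain ⟨m, rfl⟩ : ∃ m, q = m + 2 := ⟨q - 2, by omega⟩
        obtain ⟨i⟩ := hhigh m
        obtain ⟨k⟩ := nonempty_H_congr e₂ m
        haveI := hP.1 m (by omega)
        exact (i.trans k).toEquiv.subsingleton
    · obtain ⟨i⟩ := hhigh (2 * r)
      obtain ⟨k⟩ := nonempty_H_congr e₂ (2 * r)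
      obtain ⟨l⟩ := hP.2
      rw [show 2 * (r + 1) = 2 * r + 2 by ring]
      exact ⟨(i.trans k).trans l⟩
  refine ⟨W, Q, jA ≫ jid, inferInstance, p ≫ b, inferInstance, jA ≫ p', pullback.snd q₁ a₁, hW, ?_, ?_⟩
  · rw [← ha]
    simp only [Category.assoc]
    rw [← reassoc_of% (IsPullback.of_hasPullback p a).w]
  · exact hQ.of_equiv fun q => nonempty_H_congr ((EtShriek.extZero jid).mapIso eG' ≪≫ eJ).symm q

/-- The line as affine 1-space. -/
def lineIso : Spec (CommRingCat.of (Polynomial K)) ≅ AS K 1 :=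
  Scheme.Spec.mapIso (MvPolynomial.uniqueAlgEquiv K (Fin 1)).toRingEquiv.toCommRingCatIso.op

theorem lineIso_sA : (lineIso (K := K)).hom ≫ sA K 1 = Spec.map (CommRingCat.ofHom (Polynomial.C : K →+* Polynomial K)) := by
  show Spec.map _ ≫ Spec.map _ = _
  rw [← Spec.map_comp]
  congr 1
  exact CommRingCat.hom_ext (RingHom.ext fun c => (MvPolynomial.uniqueAlgEquiv K (Fin 1)).commutes c)

theorem good_succ (hn : 0 < n) (h1 : Good K n 1) {r : ℕ} (hr : Good K n r) : Good K n (r + 1) := by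
  obtain ⟨a, _, ha, -⟩ := exists_chart K r
  obtain ⟨c, _, hc, -⟩ := exists_chart K 1
  haveI : IsProper (CohB1.ProjSpace.toSpec r K) := ProjDegLib.toSpec_isProper K r
  haveI : IsProper (CohB1.ProjSpace.toSpec 1 K) := ProjDegLib.toSpec_isProper K 1
  let a₁ := (lineIso (K := K)).hom ≫ c
  have ha₁ : a₁ ≫ CohB1.ProjSpace.toSpec 1 K = Spec.map (CommRingCat.ofHom (Polynomial.C : K →+* Polynomial K)) := by
    rw [Category.assoc, hc, lineIso_sA]
  have hline : HcTop n 2 ((EtShriek.extZero a₁).obj (cn _ n)) := by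
    obtain ⟨e⟩ := nonempty_extZero_comp (lineIso (K := K)).hom c (cn _ n)
    obtain ⟨i⟩ := nonempty_extZero_iso (lineIso (K := K)).hom n
    exact (h1 _ _ c hc).of_equiv fun q => nonempty_H_congr (e.symm ≪≫ (EtShriek.extZero c).mapIso i.symm) q
  obtain ⟨W, Q, J, _, s, _, p, v, hW, hJ, hQ⟩ :=
    line_step hn hr (CohB1.ProjSpace.toSpec r K) a ha (CohB1.ProjSpace.toSpec 1 K) a₁ hline
  rw [ha₁] at hW
  have hR : IsPullback (Spec.map (CommRingCat.ofHom (Polynomial.mapRingHom (MvPolynomial.C : K →+* MvPolynomial (Fin r) K))))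
      (Spec.map (CommRingCat.ofHom (Polynomial.C : MvPolynomial (Fin r) K →+* Polynomial (MvPolynomial (Fin r) K))))
      (Spec.map (CommRingCat.ofHom (Polynomial.C : K →+* Polynomial K))) (sA K r) :=
    isPullback_SpecMap_of_isPushout _ _ _ _ (EtSmAcycLib.isPushout_mapPoly (MvPolynomial.C : K →+* MvPolynomial (Fin r) K))
  let f : AS K (r + 1) ≅ Spec (CommRingCat.of (Polynomial (MvPolynomial (Fin r) K))) :=
    (Scheme.Spec.mapIso (MvPolynomial.finSuccEquiv K r).toRingEquiv.toCommRingCatIso.op).symm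
  let ε : AS K (r + 1) ≅ W := f ≪≫ (hW.isoIsPullback _ _ hR).symm
  have hε : (ε.hom ≫ J) ≫ s = sA K (r + 1) := by
    rw [Category.assoc, hJ]
    show (f.hom ≫ (hW.isoIsPullback _ _ hR).inv) ≫ p ≫ sA K r = _
    rw [Category.assoc, IsPullback.isoIsPullback_inv_snd_assoc]
    show Spec.map _ ≫ Spec.map _ ≫ Spec.map _ = _
    rw [← Spec.map_comp, ← Spec.map_comp]
    congr 1
    refine CommRingCat.hom_ext (RingHom.ext fun x => ?_)
    show (MvPolynomial.finSuccEquiv K r).symm (Polynomial.C (MvPolynomial.C x)) = MvPolynomial.C x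
    rw [AlgEquiv.symm_apply_eq]
    exact ((MvPolynomial.finSuccEquiv K r).commutes x).symm
  refine good_of_exists hn (r + 1) s (ε.hom ≫ J) hε ?_
  obtain ⟨e⟩ := nonempty_extZero_comp ε.hom J (cn (AS K (r + 1)) n)
  obtain ⟨i⟩ := nonempty_extZero_iso ε.hom n
  exact hQ.of_equiv fun q => nonempty_H_congr (e.symm ≪≫ (EtShriek.extZero J).mapIso i.symm) q

theorem good_all (hn : 0 < n) (h1 : Good K n 1) : ∀ r, Good K n r
  | 0 => good_zero hn
  | r + 1 => good_succ hn h1 (good_all hn h1 r)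

end EtPnCohLib

end
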