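import Groth.Agent.EtPnCohLib.Les
import Groth.Agent.EtPnCohLib.Step

/-!
# The sequence of the hyperplane at infinity
-/

set_option autoImplicit false
set_option linter.all false
set_option backward.isDefEq.respectTransparency false
set_option backward.isDefEq.respectTransparency.types false
set_option maxHeartbeats 2000000
set_option synthInstance.maxHeartbeats 400000

universe u

open CategoryTheory CategoryTheory.Limits CategoryTheory.Abelian AlgebraicGeometry Opposite
open Groth.Agent Groth.Agent.EtShLib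

attribute [local instance] EtSliceLib.pullExact

noncomputable section

namespace EtPnCohLib

variable {U Z P : Scheme.{u}} (a : U ⟶ P) [IsOpenImmersion a] (i : Z ⟶ P) [IsClosedImmersion i]

theorem exists_seq (h : Set.range a.base = (Set.range i.base)ᶜ) (n : ℕ) :
    ∃ (A : EtCoh.Ab P) (f : A ⟶ cn P n) (w : f ≫ (EtCoh.pullPushAdj i).unit.app (cn P n) = 0),
      (ShortComplex.mk f _ w).ShortExact ∧
      (∀ q, Nonempty (EtCoh.H P A q ≃+ EtCoh.H P ((EtShriek.extZero a).obj (cn U n)) q)) ∧
      ∀ q, Nonempty (EtCoh.H P ((EtCoh.push i).obj ((EtCoh.pull i).obj (cn P n))) q ≃+ EtCoh.H Z (cn Z n) q) := by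
  let O := a.opensRange
  haveI : AlgebraicGeometry.Etale O.ι := inferInstance
  obtain ⟨w, hw⟩ := shortExact_recollement i O (show (O : Set P) = (Set.range i.base)ᶜ from h) (cn P n)
  refine ⟨_, _, w, hw, fun q => ?_, fun q => ?_⟩
  · obtain ⟨r⟩ := nonempty_pull_iso_restrAlong O.ι (cn P n)
    obtain ⟨e⟩ := nonempty_extZero_iso a.isoOpensRange.hom n
    obtain ⟨c⟩ := nonempty_extZero_comp a.isoOpensRange.hom O.ι (cn U n)
    refine nonempty_H_congr ?_ q
    refine (EtShriek.extZero O.ι).mapIso (r.symm ≪≫ EtCore.pullConst O.ι (ZMod n) ≪≫ e) ≪≫ c ≪≫ eqToIso ?_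
    have ha : a.isoOpensRange.hom ≫ O.ι = a := Scheme.Hom.isoOpensRange_hom_ι a
    simp only [ha]
  · obtain ⟨e₁⟩ := nonempty_H_congr ((EtCoh.push i).mapIso (EtCore.pullConst i (ZMod n))) q
    obtain ⟨e₂⟩ := nonempty_H_push i (cn Z n) (fun p hp => EtStrictAcycLib.isZero_Rpush_finite i _ p hp) q
    exact ⟨e₁.trans e₂⟩

end EtPnCohLib

end
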