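import Groth.Agent.EtPnCohLib.Collapse
import Groth.Agent.EtPnCohLib.Compact

/-!
# Cohomology of a sheaf with direct images in one degree
-/

set_option autoImplicit false
set_option linter.all false
set_option backward.isDefEq.respectTransparency false
set_option backward.isDefEq.respectTransparency.types false
set_option maxHeartbeats 2000000
set_option synthInstance.maxHeartbeats 400000

universe u

open CategoryTheory CategoryTheory.Limits CategoryTheory.Abelian AlgebraicGeometry Opposite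
open Groth.Agent Groth.Agent.EtShLib

attribute [local instance] EtSliceLib.pullExact

noncomputable section

namespace EtPnCohLib

variable {A B : Scheme.{u}} (f : A ⟶ B)

theorem nonempty_ext_pullConst (G : EtCoh.Ab A) (q : ℕ) :
    Nonempty (Ext.{u + 1} ((EtCoh.pull f).obj (EtCoh.const B ℤ)) G q ≃+ EtCoh.H A G q) := by
  let i := EtCore.pullConst f ℤ
  let Φ : Ext.{u + 1} ((EtCoh.pull f).obj (EtCoh.const B ℤ)) G q →+ Ext.{u + 1} (EtCoh.const A ℤ) G q :=
    AddMonoidHom.mk' (fun e => (Ext.mk₀ i.inv).comp e (zero_add q)) fun x y => Ext.comp_add _ _ _ _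
  refine ⟨AddEquiv.ofBijective Φ (Function.bijective_iff_has_inverse.2
    ⟨fun e => (Ext.mk₀ i.hom).comp e (zero_add q), fun e => ?_, fun e => ?_⟩)⟩
  · show (Ext.mk₀ _).comp ((Ext.mk₀ _).comp e (zero_add q)) (zero_add q) = e
    rw [Ext.mk₀_comp_mk₀_assoc, Iso.hom_inv_id, Ext.mk₀_id_comp]
  · show (Ext.mk₀ _).comp ((Ext.mk₀ _).comp e (zero_add q)) (zero_add q) = e
    rw [Ext.mk₀_comp_mk₀_assoc, Iso.inv_hom_id, Ext.mk₀_id_comp]

/-- Cohomology of a sheaf whose direct images live in degree two only. -/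
theorem collapse_two (G : EtCoh.Ab A) (hR : ∀ q : ℕ, q ≠ 2 → IsZero ((EtCoh.Rpush f q).obj G)) :
    (∀ m : ℕ, m < 2 → Subsingleton (EtCoh.H A G m)) ∧
      ∀ m : ℕ, Nonempty (EtCoh.H A G (m + 2) ≃+ EtCoh.H B ((EtCoh.Rpush f 2).obj G) m) := by
  haveI : PreservesLimitsOfSize.{0, 0} (EtCoh.push f) := (EtCoh.pullPushAdj f).rightAdjoint_preservesLimits
  haveI : PreservesFiniteLimits (EtCoh.push f) := PreservesLimitsOfSize.preservesFiniteLimits _
  haveI : PreservesFiniteColimits (EtCoh.pull f) :=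
    haveI : PreservesColimitsOfSize.{0, 0} (EtCoh.pull f) := (EtCoh.pullPushAdj f).leftAdjoint_preservesColimits
    PreservesColimitsOfSize.preservesFiniteColimits _
  haveI : (EtCoh.push f).Additive := (EtCoh.pullPushAdj f).right_adjoint_additive
  haveI : (EtCoh.pull f).Additive := (EtCoh.pullPushAdj f).left_adjoint_additive
  have h0 : IsZero ((EtCoh.push f).obj G) :=
    (hR 0 (by omega)).of_iso ((EtCoh.push f).rightDerivedZeroIsoSelf.app G).symm
  haveI hI : Injective ((EtCoh.push f).obj G) := h0.injective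
  obtain ⟨hv, hn⟩ := collapse (EtCoh.pullPushAdj f) (EtCoh.const B ℤ) 1 G hI (fun q hq0 hq => hR q hq)
  refine ⟨fun m hm => ?_, fun m => ?_⟩
  · obtain ⟨i⟩ := nonempty_ext_pullConst f G m
    rcases Nat.eq_zero_or_pos m with rfl | hm0
    · haveI : Subsingleton (Ext.{u + 1} ((EtCoh.pull f).obj (EtCoh.const B ℤ)) G 0) := by
        refine subsingleton_of_forall_eq 0 fun x => ?_
        obtain ⟨g, rfl⟩ := (Ext.mk₀_bijective _ _).2 x
        have : g = 0 := ((EtCoh.pullPushAdj f).homEquiv _ _).injective (h0.eq_of_tgt _ _)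
        rw [this, Ext.mk₀_zero]
      exact i.symm.toEquiv.subsingleton
    · haveI := hv m hm0 (by omega)
      exact i.symm.toEquiv.subsingleton
  · obtain ⟨j⟩ := hn m
    obtain ⟨i⟩ := nonempty_ext_pullConst f G (m + 2)
    exact ⟨i.symm.trans j⟩

end EtPnCohLib

end
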